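import Mathlib.Algebra.Homology.HomologySequenceLemmas
import Mathlib.Algebra.Homology.Factorizations.CM5a
import Mathlib.Algebra.Homology.HomologicalComplexAbelian
import Mathlib.Algebra.Homology.Refinements
import Mathlib.Algebra.Homology.Homotopy

/-! Injective resolutions of short exact sequences of complexes. -/

universe v u

open CategoryTheory Category Limits HomologicalComplex ZeroObject

namespace Groth.Agent.HorseLib

variable {A : Type u} [Category.{v} A] [Abelian A]

lemma quasiIso_τ₂ {S₁ S₂ : ShortComplex (CochainComplex A ℤ)} (φ : S₁ ⟶ S₂)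
    (h₁ : S₁.ShortExact) (h₂ : S₂.ShortExact) (q₁ : QuasiIso φ.τ₁) (q₃ : QuasiIso φ.τ₃) :
    QuasiIso φ.τ₂ := by
  rw [quasiIso_iff]
  intro i
  rw [quasiIsoAt_iff_isIso_homologyMap]
  have hm : Mono (homologyMap φ.τ₂ i) := by
    apply Abelian.mono_of_epi_of_mono_of_mono
      ((ComposableArrows.δ₀Functor ⋙ ComposableArrows.δ₀Functor).map
        (HomologySequence.mapComposableArrows₅ φ h₁ h₂ (i - 1) i (by simp)))
    · exact (HomologySequence.composableArrows₅_exact h₁ (i - 1) i (by simp)).δ₀.δ₀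
    · exact (HomologySequence.composableArrows₅_exact h₂ (i - 1) i (by simp)).δ₀.δ₀
    · show Epi (homologyMap φ.τ₃ (i - 1))
      infer_instance
    · show Mono (homologyMap φ.τ₁ i)
      infer_instance
    · show Mono (homologyMap φ.τ₃ i)
      infer_instance
  have he : Epi (homologyMap φ.τ₂ i) := by
    apply Abelian.epi_of_epi_of_epi_of_mono
      ((ComposableArrows.δlastFunctor ⋙ ComposableArrows.δlastFunctor).map
        (HomologySequence.mapComposableArrows₅ φ h₁ h₂ i (i + 1) rfl))
    · exact (HomologySequence.composableArrows₅_exact h₁ i (i + 1) rfl).δlast.δlast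
    · exact (HomologySequence.composableArrows₅_exact h₂ i (i + 1) rfl).δlast.δlast
    · show Epi (homologyMap φ.τ₁ i)
      infer_instance
    · show Epi (homologyMap φ.τ₃ i)
      infer_instance
    · show Mono (homologyMap φ.τ₁ (i + 1))
      infer_instance
  exact isIso_of_mono_of_epi _

/-- The contractible complex on a family of objects. -/
noncomputable def discs (E : ℤ → A) : CochainComplex A ℤ :=
  CochainComplex.of (fun n => E n ⊞ E (n + 1)) (fun n => biprod.snd ≫ biprod.inl)
    (fun n => by simp)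

lemma discs_d (E : ℤ → A) (n : ℤ) : (discs E).d n (n + 1) = biprod.snd ≫ biprod.inl :=
  CochainComplex.of_d (fun n => E n ⊞ E (n + 1)) (fun n => biprod.snd ≫ biprod.inl) n

/-- The morphism to discs given by a family of maps. -/
noncomputable def toDiscs {E : ℤ → A} (K : CochainComplex A ℤ) (g : ∀ n, K.X n ⟶ E n) :
    K ⟶ discs E where
  f n := biprod.lift (g n) (K.d n (n + 1) ≫ g (n + 1))
  comm' i j (h : i + 1 = j) := by
    subst h
    rw [discs_d]
    show (biprod.lift (g i) (K.d i (i + 1) ≫ g (i + 1)) : K.X i ⟶ E i ⊞ E (i + 1)) ≫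
        biprod.snd ≫ (biprod.inl : E (i + 1) ⟶ E (i + 1) ⊞ E (i + 1 + 1)) =
      K.d i (i + 1) ≫ biprod.lift (g (i + 1)) (K.d (i + 1) (i + 1 + 1) ≫ g (i + 1 + 1))
    apply biprod.hom_ext <;> simp

noncomputable def discsHomotopy (E : ℤ → A) : Homotopy (𝟙 (discs E)) 0 where
  hom i j := if h : j + 1 = i then eqToHom (congrArg (discs E).X h.symm) ≫
    (biprod.fst : (discs E).X (j + 1) ⟶ _) ≫
    (biprod.inr : E (j + 1) ⟶ E j ⊞ E (j + 1)) else 0
  zero i j h := dif_neg h
  comm n := by
    obtain ⟨m, rfl⟩ : ∃ m, n = m + 1 := ⟨n - 1, by lia⟩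
    rw [dNext_eq _ (show (ComplexShape.up ℤ).Rel (m + 1) (m + 1 + 1) from rfl),
      prevD_eq _ (show (ComplexShape.up ℤ).Rel m (m + 1) from rfl)]
    rw [dif_pos rfl, dif_pos rfl, discs_d, discs_d, HomologicalComplex.zero_f, add_zero,
      HomologicalComplex.id_f]
    show 𝟙 (E (m + 1) ⊞ E (m + 1 + 1)) =
      (biprod.snd ≫ biprod.inl) ≫ 𝟙 _ ≫ biprod.fst ≫ biprod.inr +
        (𝟙 _ ≫ (biprod.fst : E (m + 1) ⊞ E (m + 1 + 1) ⟶ _) ≫ biprod.inr) ≫
          biprod.snd ≫ biprod.inl
    simp only [Category.assoc, Category.id_comp, biprod.inr_snd_assoc, biprod.inl_fst_assoc]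
    exact (biprod.total.symm.trans (add_comm _ _))

/-- The termwise biproduct. -/
noncomputable def sumCx (I J : CochainComplex A ℤ) : CochainComplex A ℤ where
  X n := I.X n ⊞ J.X n
  d i j := biprod.map (I.d i j) (J.d i j)
  shape i j h := by
    rw [I.shape i j h, J.shape i j h]
    apply biprod.hom_ext <;> simp
  d_comp_d' i j k _ _ := by apply biprod.hom_ext <;> simp

noncomputable def sumLift {K I J : CochainComplex A ℤ} (f : K ⟶ I) (g : K ⟶ J) : K ⟶ sumCx I J where
  f n := biprod.lift (f.f n) (g.f n)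
  comm' i j _ := by apply biprod.hom_ext <;> simp [sumCx]

noncomputable def sumEquiv (I : CochainComplex A ℤ) {J : CochainComplex A ℤ}
    (hJ : Homotopy (𝟙 J) 0) : HomotopyEquiv (sumCx I J) I where
  hom := { f := fun _ => biprod.fst, comm' := fun _ _ _ => (biprod.map_fst _ _).symm }
  inv := { f := fun _ => biprod.inl, comm' := fun _ _ _ => (biprod.inl_map _ _) }
  homotopyHomInvId :=
    { hom := fun i j => -(biprod.snd ≫ hJ.hom i j ≫ (biprod.inr : J.X j ⟶ (sumCx I J).X j))
      zero := fun i j h => by rw [hJ.zero i j h, zero_comp, comp_zero, neg_zero]; rfl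
      comm := fun n => by
        rw [dNext_eq _ (show (ComplexShape.up ℤ).Rel n (n + 1) from rfl),
          prevD_eq _ (show (ComplexShape.up ℤ).Rel (n - 1) n from by simp)]
        have h := hJ.comm n
        rw [dNext_eq _ (show (ComplexShape.up ℤ).Rel n (n + 1) from rfl),
          prevD_eq _ (show (ComplexShape.up ℤ).Rel (n - 1) n from by simp),
          HomologicalComplex.zero_f, add_zero, HomologicalComplex.id_f] at h
        show (biprod.fst : I.X n ⊞ J.X n ⟶ _) ≫ (biprod.inl : I.X n ⟶ I.X n ⊞ J.X n) =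
          biprod.map (I.d n (n + 1)) (J.d n (n + 1)) ≫ (-(biprod.snd ≫ hJ.hom (n + 1) n ≫ (biprod.inr : J.X n ⟶ I.X n ⊞ J.X n))) +
            (-((biprod.snd : I.X n ⊞ J.X n ⟶ _) ≫ hJ.hom n (n - 1) ≫ (biprod.inr : J.X (n - 1) ⟶ I.X (n - 1) ⊞ J.X (n - 1)))) ≫
              biprod.map (I.d (n - 1) n) (J.d (n - 1) n) + 𝟙 (I.X n ⊞ J.X n)
        have h' : (biprod.snd : I.X n ⊞ J.X n ⟶ _) ≫ (biprod.inr : J.X n ⟶ I.X n ⊞ J.X n) =
            biprod.snd ≫ (J.d n (n + 1) ≫ hJ.hom (n + 1) n + hJ.hom n (n - 1) ≫ J.d (n - 1) n) ≫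
              biprod.inr := by rw [← h, Category.id_comp]
        conv_rhs => rw [← biprod.total, h']
        simp only [Preadditive.comp_neg, Preadditive.neg_comp, Category.assoc, biprod.map_snd_assoc,
          biprod.inr_map, Preadditive.add_comp, Preadditive.comp_add]
        abel }
  homotopyInvHomId := Homotopy.ofEq (by ext n : 1; exact biprod.inl_fst)

variable [EnoughInjectives A]

theorem exists_resolution (S : ShortComplex (CochainComplex A ℤ)) (hS : S.ShortExact) (n : ℤ)
    [S.X₁.IsStrictlyGE n] [S.X₂.IsStrictlyGE n] [S.X₃.IsStrictlyGE n] :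
    ∃ (T : ShortComplex (CochainComplex A ℤ)) (φ : S ⟶ T), T.ShortExact ∧
      T.X₁.IsStrictlyGE n ∧ T.X₂.IsStrictlyGE n ∧ T.X₃.IsStrictlyGE n ∧
      (∀ k : ℤ, Injective (T.X₁.X k) ∧ Injective (T.X₂.X k) ∧ Injective (T.X₃.X k)) ∧
      QuasiIso φ.τ₁ ∧ QuasiIso φ.τ₂ ∧ QuasiIso φ.τ₃ := by
  classical
  obtain ⟨I, i, hi, hI, hIn⟩ :=
    CochainComplex.Plus.modelCategoryQuillen.exists_quasiIso_injective S.X₁ n
  have := hS.mono_f
  have := hS.epi_g
  -- the pushout
  let P := pushout S.f i
  let inl : S.X₂ ⟶ P := pushout.inl S.f i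
  let inr : I ⟶ P := pushout.inr S.f i
  have hmono : Mono inr := inferInstanceAs (Mono (pushout.inr S.f i))
  let g' : P ⟶ S.X₃ := pushout.desc S.g 0 (by rw [S.zero, comp_zero])
  have hg' : inl ≫ g' = S.g := pushout.inl_desc _ _ _
  have w : inr ≫ g' = 0 := pushout.inr_desc _ _ _
  have hco : IsColimit (CokernelCofork.ofπ g' w) := by
    refine CokernelCofork.IsColimit.ofπ g' w (fun k hk => hS.exact.desc (inl ≫ k) ?_) ?_ ?_
    · show S.f ≫ inl ≫ k = 0
      rw [show S.f ≫ inl ≫ k = i ≫ inr ≫ k from pushout.condition_assoc _, hk, comp_zero]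
    · intro Z k hk
      apply pushout.hom_ext
      · show inl ≫ g' ≫ _ = inl ≫ k
        rw [reassoc_of% hg', hS.exact.g_desc]
      · show inr ≫ g' ≫ _ = inr ≫ k
        rw [reassoc_of% w, zero_comp, hk]
    · intro Z k hk m hm
      rw [← cancel_epi S.g, hS.exact.g_desc, ← hg', Category.assoc, hm]
  let S' := ShortComplex.mk inr g' w
  have : Epi g' := epi_of_epi_fac hg'
  have hS' : S'.ShortExact :=
    { exact := S'.exact_of_g_is_cokernel hco
      mono_f := hmono
      epi_g := ‹_› }
  let ψ : S ⟶ S' :=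
    { τ₁ := i, τ₂ := inl, τ₃ := 𝟙 _
      comm₁₂ := pushout.condition.symm
      comm₂₃ := by show inl ≫ g' = S.g ≫ 𝟙 _; rw [hg', Category.comp_id] }
  have hinl : QuasiIso inl := quasiIso_τ₂ ψ hS hS' hi (show QuasiIso (𝟙 S.X₃) from inferInstance)
  have hP : P.IsStrictlyGE n := by
    rw [CochainComplex.isStrictlyGE_iff]
    intro k hk
    exact ((hS'.map_of_exact (HomologicalComplex.eval A (ComplexShape.up ℤ) k)).exact).isZero_X₂
      ((I.isZero_of_isStrictlyGE n k hk).eq_of_src _ _)
      ((S.X₃.isZero_of_isStrictlyGE n k hk).eq_of_tgt _ _)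
  obtain ⟨J, j, hj, hJ, hJn⟩ :=
    CochainComplex.Plus.modelCategoryQuillen.exists_quasiIso_injective P n
  -- the contractible part
  let E : ℤ → A := fun k => if n < k then I.X k else 0
  have hE : ∀ k, Injective (E k) := fun k => by
    by_cases h : n < k
    · simp only [E, if_pos h]; exact hI k
    · simp only [E, if_neg h]; exact (isZero_zero A).injective
  have hEz : ∀ k, k ≤ n → IsZero (E k) := fun k h => by
    simp only [E, if_neg (not_lt.2 h)]; exact isZero_zero A
  let e : ∀ k, I.X k ⟶ E k := fun k => if h : n < k then eqToHom (if_pos h).symm else 0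
  have he : ∀ k, n < k → Mono (e k) := fun k h => by
    simp only [e, dif_pos h]; infer_instance
  let g : ∀ k, P.X k ⟶ E k := fun k =>
    have := hE k
    Injective.factorThru (e k) (inr.f k)
  have hg : ∀ k, inr.f k ≫ g k = e k := fun k =>
    have := hE k
    Injective.comp_factorThru _ _
  let δ := toDiscs P g
  let M := sumCx J (discs E)
  let v : P ⟶ M := sumLift j δ
  let q := sumEquiv J (discsHomotopy E)
  have hv : QuasiIso v := by
    have : v ≫ q.hom = j := HomologicalComplex.hom_ext _ _ fun k => biprod.lift_fst _ _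
    exact quasiIso_of_comp_right v q.hom (hφ := inferInstance) (hφφ' := this.symm ▸ hj)
  let u : I ⟶ M := inr ≫ v
  have hdiscs : (discs E).IsStrictlyGE n := by
    rw [CochainComplex.isStrictlyGE_iff]
    intro k hk
    show IsZero (E k ⊞ E (k + 1))
    rw [IsZero.iff_id_eq_zero]
    exact biprod.hom_ext _ _ ((hEz k (by lia)).eq_of_tgt _ _) ((hEz (k + 1) (by lia)).eq_of_tgt _ _)
  have hMn : M.IsStrictlyGE n := by
    rw [CochainComplex.isStrictlyGE_iff]
    intro k hk
    show IsZero (J.X k ⊞ (discs E).X k)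
    rw [IsZero.iff_id_eq_zero]
    exact biprod.hom_ext _ _ ((J.isZero_of_isStrictlyGE n k hk).eq_of_tgt _ _)
      (((discs E).isZero_of_isStrictlyGE n k hk).eq_of_tgt _ _)
  have hMinj : ∀ k, Injective (M.X k) := fun k => by
    have := hJ k
    have := hE k
    have := hE (k + 1)
    show Injective (J.X k ⊞ (E k ⊞ E (k + 1)))
    infer_instance
  have hu : ∀ k, Mono (u.f k) := by
    intro k
    refine Preadditive.mono_of_cancel_zero _ fun {B} x hx => ?_
    have hq : ∀ {Z : A} (q : M.X k ⟶ Z), x ≫ inr.f k ≫ v.f k ≫ q = 0 := fun q => by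
      have := congrArg (· ≫ q) hx
      simpa [u] using this
    have h1 : x ≫ inr.f k ≫ j.f k = 0 :=
      (congrArg (fun t => x ≫ inr.f k ≫ t) (biprod.lift_fst (j.f k) (δ.f k))).symm.trans
        (hq (biprod.fst : J.X k ⊞ (discs E).X k ⟶ _))
    have h2 : x ≫ inr.f k ≫ (δ.f k : P.X k ⟶ E k ⊞ E (k + 1)) = 0 :=
      (congrArg (fun t => x ≫ inr.f k ≫ t) (biprod.lift_snd (j.f k) (δ.f k))).symm.trans
        (hq (biprod.snd : J.X k ⊞ (discs E).X k ⟶ _))
    have h2' : ∀ {Z : A} (q : E k ⊞ E (k + 1) ⟶ Z),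
        x ≫ inr.f k ≫ (δ.f k : P.X k ⟶ E k ⊞ E (k + 1)) ≫ q = 0 := fun q =>
      ((congrArg (x ≫ ·) (Category.assoc (inr.f k) (δ.f k : P.X k ⟶ E k ⊞ E (k + 1)) q)).symm.trans
        (Category.assoc _ _ _).symm).trans ((congrArg (· ≫ q) h2).trans zero_comp)
    have h3 : x ≫ e k = 0 := by
      rw [← hg]
      exact (congrArg (fun t => x ≫ inr.f k ≫ t)
        (biprod.lift_fst (g k) (P.d k (k + 1) ≫ g (k + 1)))).symm.trans (h2' biprod.fst)
    obtain hk | rfl | hk := lt_trichotomy k n
    · exact (I.isZero_of_isStrictlyGE n k hk).eq_of_tgt _ _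
    · have h4 : x ≫ I.d k (k + 1) = 0 := by
        have := he (k + 1) (by lia)
        rw [← cancel_mono (e (k + 1)), zero_comp, Category.assoc, ← hg (k + 1),
          ← inr.comm_assoc k (k + 1) (g (k + 1))]
        exact (congrArg (fun t => x ≫ inr.f k ≫ t)
          (biprod.lift_snd (g k) (P.d k (k + 1) ≫ g (k + 1)))).symm.trans (h2' biprod.snd)
      let z : B ⟶ I.cycles k := I.liftCycles x (k + 1) ((ComplexShape.up ℤ).next_eq' rfl) h4
      have : IsIso (I.homologyπ k) := I.isIso_homologyπ (k - 1) k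
        ((ComplexShape.up ℤ).prev_eq' (by simp))
        ((I.isZero_of_isStrictlyGE k (k - 1) (by lia)).eq_of_src _ _)
      have : Mono (homologyMap S.f k) := by
        refine ((hS.homology_exact₁ (k - 1) k (by simp)).mono_g ?_)
        exact ((S.X₃.exactAt_of_isGE k (k - 1) (by lia)).isZero_homology).eq_of_src _ _
      have : Mono (homologyMap (i ≫ inr) k) := by
        rw [show i ≫ inr = S.f ≫ inl from pushout.condition.symm, homologyMap_comp]
        infer_instance
      have : Mono (homologyMap inr k) := by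
        have e1 : homologyMap inr k = inv (homologyMap i k) ≫ homologyMap (i ≫ inr) k := by
          rw [homologyMap_comp, IsIso.inv_hom_id_assoc]
        rw [e1]
        infer_instance
      have : Mono (homologyMap (inr ≫ j) k) := by
        rw [homologyMap_comp]
        infer_instance
      have hz : z ≫ cyclesMap (inr ≫ j) k = 0 := by
        rw [← cancel_mono (J.iCycles k), zero_comp, Category.assoc, cyclesMap_i,
          I.liftCycles_i_assoc]
        exact h1
      have hz0 : z = 0 := by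
        rw [← cancel_mono (I.homologyπ k ≫ homologyMap (inr ≫ j) k), zero_comp,
          homologyπ_naturality, reassoc_of% hz, zero_comp]
      rw [← I.liftCycles_i x (k + 1) ((ComplexShape.up ℤ).next_eq' rfl) h4]
      exact (congrArg (· ≫ I.iCycles k) hz0).trans zero_comp
    · have := he k hk
      rwa [← cancel_mono (e k), zero_comp]
  have : Mono u := HomologicalComplex.mono_of_mono_f u hu
  let T := ShortComplex.mk u (cokernel.π u) (cokernel.condition u)
  have hT : T.ShortExact :=
    { exact := T.exact_of_g_is_cokernel (cokernelIsCokernel u) }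
  have hw : S.f ≫ inl ≫ v ≫ cokernel.π u = 0 := by
    rw [show S.f ≫ inl ≫ v ≫ cokernel.π u = i ≫ inr ≫ v ≫ cokernel.π u from
      pushout.condition_assoc _, ← Category.assoc inr v]
    exact (congrArg (i ≫ ·) (cokernel.condition u)).trans comp_zero
  let φ₃ : S.X₃ ⟶ cokernel u := hS.exact.desc (inl ≫ v ≫ cokernel.π u) hw
  let φ : S ⟶ T :=
    { τ₁ := i, τ₂ := inl ≫ v, τ₃ := φ₃
      comm₁₂ := (pushout.condition_assoc (f := S.f) (g := i) v).symm
      comm₂₃ := by
        show (inl ≫ v) ≫ cokernel.π u = S.g ≫ φ₃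
        rw [Category.assoc]
        exact (hS.exact.g_desc _ hw).symm }
  have h2 : QuasiIso φ.τ₂ := inferInstanceAs (QuasiIso (inl ≫ v))
  have hinj : ∀ k, Injective ((cokernel u).X k) := fun k => by
    have := hI k
    have := hMinj k
    have hsk := hT.map_of_exact (HomologicalComplex.eval A (ComplexShape.up ℤ) k)
    have : Injective ((T.map (HomologicalComplex.eval A (ComplexShape.up ℤ) k)).X₁) := hI k
    let σ := hsk.splittingOfInjective
    let sσ : (cokernel u).X k ⟶ M.X k := σ.s
    refine ⟨fun f m _ => ⟨Injective.factorThru (f ≫ sσ) m ≫ (cokernel.π u).f k, ?_⟩⟩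
    rw [Injective.comp_factorThru_assoc, Category.assoc]
    exact (congrArg (f ≫ ·) σ.s_g).trans (Category.comp_id f)
  refine ⟨T, φ, hT, hIn, hMn, ?_, fun k => ⟨hI k, hMinj k, hinj k⟩, hi, h2,
    HomologySequence.quasiIso_τ₃ φ hS hT hi h2⟩
  rw [CochainComplex.isStrictlyGE_iff]
  intro k hk
  have : Epi ((cokernel.π u).f k) := inferInstance
  exact IsZero.of_epi ((cokernel.π u).f k) (M.isZero_of_isStrictlyGE n k hk)

end Groth.Agent.HorseLib
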