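import Groth.Agent.HorseLib.Basic
import Groth.Agent.FilLib.Trunc
import Mathlib.CategoryTheory.Abelian.GrothendieckCategory.EnoughInjectives

/-! Functorial enlargement of complexes factoring through injectives. -/

universe v u

open CategoryTheory Category Limits MorphismProperty ZeroObject

namespace Groth.Agent.HorseLib

variable {A : Type u} [Category.{v} A] [Abelian A]

section Cocone

variable {M D Q : CochainComplex A ℤ} (ι : M ⟶ D) (π : D ⟶ Q)

@[reassoc]
lemma map_xiso {K L : CochainComplex A ℤ} (f : K ⟶ L) {a b : ℤ} (h : a = b) :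
    f.f a ≫ (L.XIsoOfEq h).hom = (K.XIsoOfEq h).hom ≫ f.f b := by
  subst h
  simp

/-- The cocone, with biproducts in the terms. -/
noncomputable abbrev coconeX (D Q : CochainComplex A ℤ) (n : ℤ) : A := D.X n ⊞ Q.X (n - 1)

noncomputable def coconeD (n : ℤ) : coconeX D Q n ⟶ coconeX D Q (n + 1) :=
  biprod.lift (biprod.fst ≫ D.d n (n + 1))
    (biprod.fst ≫ π.f n ≫ (Q.XIsoOfEq (show n = n + 1 - 1 by lia)).hom -
      biprod.snd ≫ Q.d (n - 1) (n + 1 - 1))

lemma coconeD_sq (n : ℤ) : coconeD π n ≫ coconeD π (n + 1) = 0 := by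
  unfold coconeD coconeX
  apply biprod.hom_ext
  · simp
  · apply biprod.hom_ext'
    · simp [Preadditive.comp_sub, Preadditive.sub_comp, sub_eq_zero, map_xiso, map_xiso_assoc]
    · simp [Preadditive.comp_sub, Preadditive.sub_comp]

noncomputable def coconeCx : CochainComplex A ℤ :=
  CochainComplex.of (coconeX D Q) (coconeD π) (coconeD_sq π)

lemma coconeCx_d (n : ℤ) : (coconeCx π).d n (n + 1) = coconeD π n :=
  CochainComplex.of_d _ _ n

noncomputable def toCocone (w : ι ≫ π = 0) : M ⟶ coconeCx π where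
  f n := biprod.lift (ι.f n) 0
  comm' i j (h : i + 1 = j) := by
    subst h
    rw [coconeCx_d]
    show (biprod.lift (ι.f i) 0 : M.X i ⟶ D.X i ⊞ Q.X (i - 1)) ≫
        (biprod.lift (biprod.fst ≫ D.d i (i + 1))
          (biprod.fst ≫ π.f i ≫ (Q.XIsoOfEq (show i = i + 1 - 1 by lia)).hom -
            biprod.snd ≫ Q.d (i - 1) (i + 1 - 1)) :
          D.X i ⊞ Q.X (i - 1) ⟶ D.X (i + 1) ⊞ Q.X (i + 1 - 1)) =
      M.d i (i + 1) ≫ (biprod.lift (ι.f (i + 1)) 0 : M.X (i + 1) ⟶ D.X (i + 1) ⊞ Q.X (i + 1 - 1))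
    apply biprod.hom_ext
    · simp
    · have hw : ι.f i ≫ π.f i = 0 := by rw [← HomologicalComplex.comp_f, w, HomologicalComplex.zero_f]
      simp [Preadditive.comp_sub, reassoc_of% hw]

lemma quasiIso_toCocone (w : ι ≫ π = 0) [∀ n, Mono (ι.f n)] [∀ n, Epi (π.f n)]
    (hex : ∀ n, (ShortComplex.mk (ι.f n) (π.f n)
      (by rw [← HomologicalComplex.comp_f, w, HomologicalComplex.zero_f])).Exact) :
    QuasiIso (toCocone ι π w) := by
  have : ∀ n, Mono ((toCocone ι π w).f n) := fun n => mono_of_mono_fac (biprod.lift_fst (ι.f n) 0)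
  apply Groth.Agent.FilLib.quasiIso_of_mono
  intro i n j hi hj B y x hyx
  subst hj
  obtain rfl : i = n - 1 := by lia
  have h2 : (y ≫ (biprod.fst : coconeX D Q n ⟶ _)) ≫ π.f n =
      (y ≫ (biprod.snd : coconeX D Q n ⟶ _)) ≫ Q.d (n - 1) n := by
    have h := congrArg (· ≫ (biprod.snd : coconeX D Q (n + 1) ⟶ _)) hyx
    rw [coconeCx_d] at h
    have hl : coconeD π n ≫ (biprod.snd : coconeX D Q (n + 1) ⟶ _) =
        biprod.fst ≫ π.f n ≫ (Q.XIsoOfEq (show n = n + 1 - 1 by lia)).hom -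
          biprod.snd ≫ Q.d (n - 1) (n + 1 - 1) := biprod.lift_snd _ _
    have hr : (toCocone ι π w).f (n + 1) ≫ (biprod.snd : coconeX D Q (n + 1) ⟶ _) = 0 :=
      biprod.lift_snd _ _
    have h' : (y : B ⟶ D.X n ⊞ Q.X (n - 1)) ≫ (biprod.fst ≫ π.f n ≫
          (Q.XIsoOfEq (show n = n + 1 - 1 by lia)).hom - biprod.snd ≫ Q.d (n - 1) (n + 1 - 1)) = 0 := by
      refine ((congrArg (fun t => (y : B ⟶ D.X n ⊞ Q.X (n - 1)) ≫ t) hl).symm.trans ?_)
      refine (Category.assoc _ _ _).symm.trans (h.trans ((Category.assoc _ _ _).trans ?_))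
      exact (congrArg (x ≫ ·) hr).trans comp_zero
    replace h' := (Preadditive.comp_sub _ _ _).symm.trans h'
    rw [sub_eq_zero] at h'
    rw [← cancel_mono (Q.XIsoOfEq (show n = n + 1 - 1 by lia)).hom]
    simp at h' ⊢
    exact h'
  obtain ⟨B1, p1, _, x1, hx1⟩ := surjective_up_to_refinements_of_epi (π.f (n - 1))
    (y ≫ (biprod.snd : coconeX D Q n ⟶ _))
  have h3 : (p1 ≫ y ≫ (biprod.fst : coconeX D Q n ⟶ _) - x1 ≫ D.d (n - 1) n) ≫ π.f n = 0 := by
    rw [Preadditive.sub_comp, sub_eq_zero, Category.assoc, h2, Category.assoc, Category.assoc,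
      ← π.comm, reassoc_of% hx1]
  obtain ⟨B2, p2, _, k, hk⟩ := Groth.Agent.FilLib.refines' _ _ _ (hex n) _ h3
  refine ⟨B2, p2 ≫ p1, inferInstance, k,
    (p2 ≫ x1) ≫ (biprod.inl : D.X (n - 1) ⟶ coconeX D Q (n - 1)), ?_⟩
  have e : ∀ (m : ℤ) (hm : m = n), (biprod.inl : D.X (n - 1) ⟶ coconeX D Q (n - 1)) ≫
      (coconeCx π).d (n - 1) m =
      (biprod.lift (D.d (n - 1) m) (π.f (n - 1) ≫ (Q.XIsoOfEq (by lia)).hom) :
        D.X (n - 1) ⟶ D.X m ⊞ Q.X (m - 1)) := by
    intro m hm
    obtain rfl : m = n - 1 + 1 := by lia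
    rw [coconeCx_d]
    show (biprod.inl : D.X (n - 1) ⟶ D.X (n - 1) ⊞ Q.X (n - 1 - 1)) ≫ biprod.lift _ _ = _
    apply biprod.hom_ext <;> simp [Preadditive.comp_sub, map_xiso]
  refine Eq.trans ?_ (congrArg (k ≫ (toCocone ι π w).f n + ·)
    ((congrArg ((p2 ≫ x1) ≫ ·) (e n rfl)).symm.trans (Category.assoc _ _ _).symm))
  show (p2 ≫ p1) ≫ y = k ≫ (biprod.lift (ι.f n) 0 : M.X n ⟶ D.X n ⊞ Q.X (n - 1)) +
    (p2 ≫ x1) ≫ biprod.lift (D.d (n - 1) n) (π.f (n - 1) ≫ (Q.XIsoOfEq (show n - 1 = n - 1 from rfl)).hom)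
  apply biprod.hom_ext
  · rw [Preadditive.add_comp, Category.assoc k, biprod.lift_fst, Category.assoc (p2 ≫ x1),
      biprod.lift_fst, ← hk, Preadditive.comp_sub]
    simp
    exact (Category.assoc _ _ _).trans (congrArg (p2 ≫ ·) (Category.assoc _ _ _))
  · rw [Preadditive.add_comp, Category.assoc k, biprod.lift_snd, Category.assoc (p2 ≫ x1),
      biprod.lift_snd, comp_zero, zero_add]
    simp
    exact ((Category.assoc _ _ _).trans (congrArg (p2 ≫ ·) (Category.assoc _ _ _))).trans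
      (congrArg (p2 ≫ ·) hx1)

end Cocone

variable [IsGrothendieckAbelian.{v} A]

/-- The zero arrow out of an object. -/
noncomputable def zeroArrow : A ⥤ Arrow A where
  obj X := Arrow.mk (0 : X ⟶ 0)
  map f := Arrow.homMk f (𝟙 _) (by simp)
  map_id X := by ext <;> simp
  map_comp f g := by ext <;> simp

/-- The chosen functorial factorization. -/
noncomputable def facData :=
  functorialFactorizationData (monomorphisms A) (monomorphisms A).rlp

/-- The functorial injective embedding. -/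
noncomputable def injFun : A ⥤ A := zeroArrow ⋙ facData.Z

noncomputable def injι : 𝟭 A ⟶ injFun where
  app X := facData.i.app (Arrow.mk (0 : X ⟶ 0))
  naturality X Y f := facData.i.naturality (zeroArrow.map f)

instance (X : A) : Injective (injFun.obj X) :=
  inferInstanceAs (Injective (IsGrothendieckAbelian.monoMapFactorizationDataRlp (0 : X ⟶ 0)).Z)

instance (X : A) : Mono ((injι (A := A)).app X) :=
  inferInstanceAs (Mono (IsGrothendieckAbelian.monoMapFactorizationDataRlp (0 : X ⟶ 0)).i)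

variable (M : CochainComplex A ℤ)

noncomputable def bigCx : CochainComplex A ℤ := discs fun n => injFun.obj (M.X n)

noncomputable def toBig : M ⟶ bigCx M := toDiscs M fun _ => injι.app _

variable {M}

noncomputable def bigMap {M' : CochainComplex A ℤ} (f : M ⟶ M') : bigCx M ⟶ bigCx M' where
  f n := biprod.map (injFun.map (f.f n)) (injFun.map (f.f (n + 1)))
  comm' i j (h : i + 1 = j) := by
    subst h
    show _ ≫ (discs fun n => injFun.obj (M'.X n)).d i (i + 1) =
      (discs fun n => injFun.obj (M.X n)).d i (i + 1) ≫ _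
    rw [discs_d, discs_d]
    show (biprod.map (injFun.map (f.f i)) (injFun.map (f.f (i + 1)))) ≫ biprod.snd ≫
        (biprod.inl : injFun.obj (M'.X (i + 1)) ⟶ injFun.obj (M'.X (i + 1)) ⊞ injFun.obj (M'.X (i + 1 + 1))) =
      (biprod.snd ≫ (biprod.inl : injFun.obj (M.X (i + 1)) ⟶ injFun.obj (M.X (i + 1)) ⊞ injFun.obj (M.X (i + 1 + 1)))) ≫
        biprod.map (injFun.map (f.f (i + 1))) (injFun.map (f.f (i + 1 + 1)))
    apply biprod.hom_ext <;> simp

lemma toBig_naturality {M' : CochainComplex A ℤ} (f : M ⟶ M') :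
    f ≫ toBig M' = toBig M ≫ bigMap f := by
  ext n : 1
  show f.f n ≫ (biprod.lift (injι.app _) (M'.d n (n + 1) ≫ injι.app _) :
      M'.X n ⟶ injFun.obj (M'.X n) ⊞ injFun.obj (M'.X (n + 1))) =
    (biprod.lift (injι.app _) (M.d n (n + 1) ≫ injι.app _) :
      M.X n ⟶ injFun.obj (M.X n) ⊞ injFun.obj (M.X (n + 1))) ≫ biprod.map _ _
  apply biprod.hom_ext
  · simp only [Category.assoc, biprod.lift_fst, biprod.map_fst, biprod.lift_fst_assoc]
    exact injι.naturality _
  · simp only [Category.assoc, biprod.lift_snd, biprod.map_snd, biprod.lift_snd_assoc]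
    exact (f.comm_assoc n (n + 1) _).trans (congrArg (M.d n (n + 1) ≫ ·) (injι.naturality _))

instance (n : ℤ) : Mono ((toBig M).f n) :=
  mono_of_mono_fac (biprod.lift_fst (injι.app (M.X n)) (M.d n (n + 1) ≫ injι.app _))

lemma bigMap_id : bigMap (𝟙 M) = 𝟙 (bigCx M) := by
  ext n : 1
  show biprod.map (injFun.map (𝟙 (M.X n))) (injFun.map (𝟙 (M.X (n + 1)))) = 𝟙 (_ ⊞ _)
  apply biprod.hom_ext <;> simp

lemma bigMap_comp {M' M'' : CochainComplex A ℤ} (f : M ⟶ M') (g : M' ⟶ M'') :
    bigMap (f ≫ g) = bigMap f ≫ bigMap g := by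
  ext n : 1
  show biprod.map (injFun.map (f.f n ≫ g.f n)) (injFun.map (f.f (n + 1) ≫ g.f (n + 1))) =
    biprod.map (injFun.map (f.f n)) (injFun.map (f.f (n + 1))) ≫
      biprod.map (injFun.map (g.f n)) (injFun.map (g.f (n + 1)))
  apply biprod.hom_ext <;> simp

noncomputable def enlMap {M' : CochainComplex A ℤ} (f : M ⟶ M') :
    coconeCx (cokernel.π (toBig M)) ⟶ coconeCx (cokernel.π (toBig M')) where
  f n := biprod.map ((bigMap f).f n)
    ((cokernel.map (toBig M) (toBig M') f (bigMap f) (toBig_naturality f).symm).f (n - 1))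
  comm' i j (h : i + 1 = j) := by
    subst h
    rw [coconeCx_d, coconeCx_d]
    let g := cokernel.map (toBig M) (toBig M') f (bigMap f) (toBig_naturality f).symm
    have hg : ∀ m, (cokernel.π (toBig M)).f m ≫ g.f m = (bigMap f).f m ≫ (cokernel.π (toBig M')).f m := by
      intro m
      rw [← HomologicalComplex.comp_f, ← HomologicalComplex.comp_f]
      exact congrArg (fun φ : bigCx M ⟶ cokernel (toBig M') => φ.f m)
        (cokernel.π_desc (toBig M) (bigMap f ≫ cokernel.π (toBig M')) _)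
    show biprod.map _ _ ≫ coconeD _ i = coconeD _ i ≫ biprod.map _ (g.f (i + 1 - 1))
    unfold coconeD coconeX
    apply biprod.hom_ext
    · simp
    · apply biprod.hom_ext'
      · simp [Preadditive.comp_sub, Preadditive.sub_comp, map_xiso, map_xiso_assoc]
        exact (hg _).symm
      · simp [Preadditive.comp_sub, Preadditive.sub_comp, g]

theorem exists_enlargement :
    ∃ (N : CochainComplex A ℤ ⥤ CochainComplex A ℤ) (j : 𝟭 _ ⟶ N),
      ∀ M : CochainComplex A ℤ, (∀ n : ℤ, Mono ((j.app M).f n)) ∧ QuasiIso (j.app M) ∧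
        ∀ n : ℤ, ∃ (I : A) (_ : Injective I) (a : M.X n ⟶ I) (b : I ⟶ (N.obj M).X n),
          Mono b ∧ a ≫ b = (j.app M).f n := by
  let N : CochainComplex A ℤ ⥤ CochainComplex A ℤ :=
    { obj := fun M => coconeCx (cokernel.π (toBig M))
      map := fun f => enlMap f
      map_id := fun M => by
        ext n : 1
        show biprod.map _ _ = 𝟙 _
        rw [show cokernel.map (toBig M) (toBig M) (𝟙 M) (bigMap (𝟙 M)) (toBig_naturality _).symm =
          𝟙 _ from coequalizer.hom_ext (by simp [bigMap_id]), bigMap_id]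
        show biprod.map (𝟙 _) (𝟙 _) = 𝟙 (_ ⊞ _)
        apply biprod.hom_ext <;> simp
      map_comp := fun {X Y Z} f g => by
        ext n : 1
        show biprod.map _ _ = biprod.map _ _ ≫ biprod.map _ _
        rw [show cokernel.map (toBig X) (toBig Z) (f ≫ g) (bigMap (f ≫ g)) (toBig_naturality _).symm =
          cokernel.map (toBig X) (toBig Y) f (bigMap f) (toBig_naturality f).symm ≫
            cokernel.map (toBig Y) (toBig Z) g (bigMap g) (toBig_naturality g).symm
          from coequalizer.hom_ext (by simp [bigMap_comp]), bigMap_comp]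
        apply biprod.hom_ext <;> simp }
  let j : 𝟭 _ ⟶ N :=
    { app := fun M => toCocone (toBig M) (cokernel.π (toBig M)) (cokernel.condition _)
      naturality := fun X Y f => by
        ext n : 1
        show f.f n ≫ (biprod.lift ((toBig Y).f n) 0 : _ ⟶ _ ⊞ _) =
          (biprod.lift ((toBig X).f n) 0 : _ ⟶ _ ⊞ _) ≫ biprod.map _ _
        apply biprod.hom_ext
        · simp only [Category.assoc, biprod.lift_fst, biprod.map_fst, biprod.lift_fst_assoc]
          exact congrArg (fun φ => φ.f n) (toBig_naturality f)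
        · simp }
  refine ⟨N, j, fun M => ⟨fun n => mono_of_mono_fac (biprod.lift_fst ((toBig M).f n) 0), ?_,
    fun n => ?_⟩⟩
  · exact quasiIso_toCocone (toBig M) (cokernel.π (toBig M)) (cokernel.condition _) fun n =>
      (ShortComplex.exact_of_g_is_cokernel (ShortComplex.mk _ _ (cokernel.condition (toBig M)))
        (cokernelIsCokernel _)).map (HomologicalComplex.eval A (ComplexShape.up ℤ) n)
  · refine ⟨(bigCx M).X n, ?_, (toBig M).f n, biprod.inl, inferInstanceAs (Mono biprod.inl), ?_⟩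
    · show Injective (injFun.obj (M.X n) ⊞ injFun.obj (M.X (n + 1)))
      infer_instance
    · show (toBig M).f n ≫ biprod.inl = biprod.lift ((toBig M).f n) 0
      apply biprod.hom_ext <;> simp

end Groth.Agent.HorseLib
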