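import Groth.Agent.HorseLib.Basic
import Groth.Agent.TriCat.ResolveOp
import Mathlib.CategoryTheory.Preadditive.Projective.Basic

/-! Projective resolutions of short exact sequences of complexes. -/

universe v u

open CategoryTheory Category Limits HomologicalComplex Opposite

namespace Groth.Agent.HorseLib

variable {A : Type u} [Category.{v} A] [Abelian A] [EnoughProjectives A]

theorem exists_resolution_left (S : ShortComplex (CochainComplex A ℤ)) (hS : S.ShortExact) (n : ℤ)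
    [S.X₁.IsStrictlyLE n] [S.X₂.IsStrictlyLE n] [S.X₃.IsStrictlyLE n] :
    ∃ (T : ShortComplex (CochainComplex A ℤ)) (φ : T ⟶ S), T.ShortExact ∧
      T.X₁.IsStrictlyLE n ∧ T.X₂.IsStrictlyLE n ∧ T.X₃.IsStrictlyLE n ∧
      (∀ k : ℤ, Projective (T.X₁.X k) ∧ Projective (T.X₂.X k) ∧ Projective (T.X₃.X k)) ∧
      QuasiIso φ.τ₁ ∧ QuasiIso φ.τ₂ ∧ QuasiIso φ.τ₃ := by
  let E := CochainComplex.opEquivalence A
  have : E.functor.PreservesZeroMorphisms := Functor.preservesZeroMorphisms_of_full _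
  have : E.inverse.PreservesZeroMorphisms := Functor.preservesZeroMorphisms_of_full _
  have hGE : ∀ K : CochainComplex A ℤ, K.IsStrictlyLE n →
      (E.functor.obj (op K)).IsStrictlyGE (-n) := fun K _ => by
    rw [CochainComplex.isStrictlyGE_iff]
    intro i hi
    exact (K.isZero_of_isStrictlyLE n (-i) (by omega)).op
  have hLE : ∀ L : CochainComplex Aᵒᵖ ℤ, L.IsStrictlyGE (-n) →
      ((E.inverse.obj L).unop).IsStrictlyLE n := fun L _ => by
    rw [CochainComplex.isStrictlyLE_iff]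
    intro i hi
    exact (L.isZero_of_isStrictlyGE (-n) (-i) (by omega)).unop
  let S' := S.op.map E.functor
  have : S'.X₁.IsStrictlyGE (-n) := hGE _ ‹_›
  have : S'.X₂.IsStrictlyGE (-n) := hGE _ ‹_›
  have : S'.X₃.IsStrictlyGE (-n) := hGE _ ‹_›
  obtain ⟨T', φ', hT', h1, h2, h3, hinj, q1, q2, q3⟩ :=
    exists_resolution S' (hS.op.map_of_exact E.functor) (-n)
  let φ'' : S.op ⟶ T'.map E.inverse :=
    { τ₁ := E.unitIso.hom.app _ ≫ E.inverse.map φ'.τ₁
      τ₂ := E.unitIso.hom.app _ ≫ E.inverse.map φ'.τ₂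
      τ₃ := E.unitIso.hom.app _ ≫ E.inverse.map φ'.τ₃
      comm₁₂ := by
        show (E.unitIso.hom.app _ ≫ E.inverse.map φ'.τ₁) ≫ E.inverse.map T'.f = _
        rw [Category.assoc, ← Functor.map_comp]
        refine (congrArg (E.unitIso.hom.app _ ≫ E.inverse.map ·) φ'.comm₁₂).trans ?_
        refine (congrArg (_ ≫ ·) (E.inverse.map_comp _ _)).trans ?_
        exact (E.unitIso.hom.naturality_assoc S.op.f _).symm
      comm₂₃ := by
        show (E.unitIso.hom.app _ ≫ E.inverse.map φ'.τ₂) ≫ E.inverse.map T'.g = _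
        rw [Category.assoc, ← Functor.map_comp]
        refine (congrArg (E.unitIso.hom.app _ ≫ E.inverse.map ·) φ'.comm₂₃).trans ?_
        refine (congrArg (_ ≫ ·) (E.inverse.map_comp _ _)).trans ?_
        exact (E.unitIso.hom.naturality_assoc S.op.g _).symm }
  have hq : ∀ {K : CochainComplex A ℤ} {L : CochainComplex Aᵒᵖ ℤ}
      (ψ : E.functor.obj (op K) ⟶ L), QuasiIso ψ →
      QuasiIso (E.unitIso.hom.app (op K) ≫ E.inverse.map ψ).unop := by
    intro K L ψ hψ
    rw [← Groth.Agent.TriCat.quasiIso_op_iff]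
    have : E.functor.map (E.unitIso.hom.app (op K) ≫ E.inverse.map ψ) =
        ψ ≫ E.counitIso.inv.app L := by
      rw [Functor.map_comp]
      exact ((E.functor.map (E.unitIso.hom.app (op K))) ≫= E.fun_inv_map _ _ ψ).trans (by simp)
    show QuasiIso (E.functor.map (E.unitIso.hom.app (op K) ≫ E.inverse.map ψ))
    rw [this]
    infer_instance
  let φ : (T'.map E.inverse).unop ⟶ S :=
    { τ₁ := φ''.τ₃.unop, τ₂ := φ''.τ₂.unop, τ₃ := φ''.τ₁.unop
      comm₁₂ := Quiver.Hom.op_inj φ''.comm₂₃.symm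
      comm₂₃ := Quiver.Hom.op_inj φ''.comm₁₂.symm }
  have hproj : ∀ (L : CochainComplex Aᵒᵖ ℤ) (k : ℤ), Injective (L.X (-k)) →
      Projective ((E.inverse.obj L).unop.X k) := fun L k h =>
    Injective.projective_iff_injective_op.2 h
  exact ⟨_, φ, (hT'.map_of_exact E.inverse).unop, hLE _ h3, hLE _ h2, hLE _ h1,
    fun k => ⟨hproj _ k (hinj (-k)).2.2, hproj _ k (hinj (-k)).2.1, hproj _ k (hinj (-k)).1⟩,
    hq _ q3, hq _ q2, hq _ q1⟩

end Groth.Agent.HorseLib
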